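import Groth.Agent.FlatInDimLib.Basic
import Groth.Agent.DevissShrinkLib.Push
import Mathlib

/-!
# Flatness in dimensions at least `n` after base change
-/

set_option autoImplicit false
set_option linter.all false

universe u

open scoped TensorProduct

namespace FlatInDimLib

attribute [local instance] Algebra.TensorProduct.rightAlgebra

variable {A : Type u} [CommRing A]

/-- Flatness in dimensions `≥ n` of the base change to `A'`, away from the zero locus of `g`. -/
def FDb (n : ℕ) (g : A) (A' : Type u) [CommRing A'] [Algebra A A'] (P : Type u) [CommRing P] [Algebra A P]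
    (M : Type u) [AddCommGroup M] [Module P M] : Prop :=
  FDOn n A' (algebraMap A A' g) (A' ⊗[A] P) ((A' ⊗[A] P) ⊗[P] M)

variable {n : ℕ} {g : A} {A' : Type u} [CommRing A'] [Algebra A A']

/-- The base change of a finite algebra computes flatness in dimensions `≥ n`. -/
theorem fdb_iff_of_finite {P Q M : Type u} [CommRing P] [CommRing Q] [Algebra A P] [Algebra A Q] [Algebra P Q]
    [IsScalarTower A P Q] [Module.Finite P Q] [AddCommGroup M] [Module Q M] [Module P M] [IsScalarTower P Q M]
    {Q' M' : Type u} [CommRing Q'] [Algebra A' Q'] [Algebra A Q'] [Algebra Q Q'] [IsScalarTower A A' Q']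
    [IsScalarTower A Q Q'] [Algebra.IsPushout A Q A' Q'] [AddCommGroup M'] [Module Q' M'] [Module Q M']
    [IsScalarTower Q Q' M'] [Module A' M'] [IsScalarTower A' Q' M'] (φ : M →ₗ[Q] M') (hφ : IsBaseChange Q' φ) :
    FDb n g A' P M ↔ FDOn n A' (algebraMap A A' g) Q' M' := by
  let P' := A' ⊗[A] P
  let θ : P' →ₐ[A'] Q' := Algebra.TensorProduct.lift (Algebra.ofId A' Q')
    ((IsScalarTower.toAlgHom A Q Q').comp (IsScalarTower.toAlgHom A P Q)) fun _ _ => Commute.all _ _
  letI : Algebra P' Q' := θ.toRingHom.toAlgebra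
  letI : Algebra P Q' := ((algebraMap Q Q').comp (algebraMap P Q)).toAlgebra
  haveI : IsScalarTower P Q Q' := IsScalarTower.of_algebraMap_eq fun _ => rfl
  haveI : IsScalarTower A' P' Q' := IsScalarTower.of_algebraMap_eq fun x => (θ.commutes x).symm
  haveI : IsScalarTower P P' Q' := IsScalarTower.of_algebraMap_eq fun x => by
    show _ = θ ((1 : A') ⊗ₜ[A] x)
    rw [Algebra.TensorProduct.lift_tmul, map_one, one_mul]
    rfl
  haveI : IsScalarTower A P Q' := IsScalarTower.of_algebraMap_eq fun a => by
    show _ = algebraMap Q Q' (algebraMap P Q _)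
    rw [← IsScalarTower.algebraMap_apply A P Q, ← IsScalarTower.algebraMap_apply A Q Q']
  haveI : IsScalarTower A P' Q' := IsScalarTower.of_algebraMap_eq fun a => by
    rw [IsScalarTower.algebraMap_apply A A' P', ← IsScalarTower.algebraMap_apply A' P' Q',
      ← IsScalarTower.algebraMap_apply A A' Q']
  haveI hPQ : Algebra.IsPushout P Q P' Q' :=
    ((Algebra.IsPushout.comp_iff A P (T := Q) A' P' (T' := Q')).1 inferInstance)
  haveI : Algebra.IsPushout P P' Q Q' := hPQ.symm
  haveI : Module.Finite P' Q' := DevissShrinkLib.finite_pushout (P := P) (Q := Q) inferInstance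
  letI : Module P' M' := Module.compHom M' (algebraMap P' Q')
  haveI : IsScalarTower P' Q' M' := IsScalarTower.of_algebraMap_smul fun _ _ => rfl
  haveI : IsScalarTower A' P' M' := IsScalarTower.of_algebraMap_smul fun a m => by
    show algebraMap P' Q' (algebraMap A' P' a) • m = a • m
    rw [← IsScalarTower.algebraMap_apply, algebraMap_smul]
  letI : Module P M' := Module.compHom M' (algebraMap P Q)
  haveI : IsScalarTower P Q M' := IsScalarTower.of_algebraMap_smul fun _ _ => rfl
  haveI : IsScalarTower P P' M' := IsScalarTower.of_algebraMap_smul fun x m => by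
    show algebraMap P' Q' (algebraMap P P' x) • m = algebraMap P Q x • m
    rw [← IsScalarTower.algebraMap_apply, IsScalarTower.algebraMap_apply P Q Q', algebraMap_smul]
  have hb := DevissShrinkLib.isBaseChange_restrict (P := P) (P' := P') φ hφ
  unfold FDb
  exact (fdOn_congr hb.equiv).trans fdOn_finite_iff

/-- Any model computes flatness in dimensions `≥ n` of the base change. -/
theorem fdb_iff_model {P M : Type u} [CommRing P] [Algebra A P] [AddCommGroup M] [Module P M]
    {P' M' : Type u} [CommRing P'] [Algebra A' P'] [Algebra A P'] [Algebra P P'] [IsScalarTower A A' P']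
    [IsScalarTower A P P'] [Algebra.IsPushout A P A' P'] [AddCommGroup M'] [Module P' M'] [Module P M']
    [IsScalarTower P P' M'] [Module A' M'] [IsScalarTower A' P' M'] (φ : M →ₗ[P] M') (hφ : IsBaseChange P' φ) :
    FDb n g A' P M ↔ FDOn n A' (algebraMap A A' g) P' M' :=
  fdb_iff_of_finite φ hφ

theorem fdb_iff_finite {P Q M : Type u} [CommRing P] [CommRing Q] [Algebra A P] [Algebra A Q] [Algebra P Q]
    [IsScalarTower A P Q] [Module.Finite P Q] [AddCommGroup M] [Module Q M] [Module P M] [IsScalarTower P Q M] :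
    FDb n g A' P M ↔ FDb n g A' Q M :=
  fdb_iff_of_finite (TensorProduct.mk Q (A' ⊗[A] Q) M 1) (TensorProduct.isBaseChange Q M (A' ⊗[A] Q))

theorem fdb_congr {P M N : Type u} [CommRing P] [Algebra A P] [AddCommGroup M] [Module P M] [AddCommGroup N]
    [Module P N] (e : M ≃ₗ[P] N) : FDb n g A' P M ↔ FDb n g A' P N :=
  fdOn_congr (e.baseChange P (A' ⊗[A] P) M N)

/-- Tensoring a base change with a module over the new base. -/
theorem exists_tensor_equiv {B B' : Type u} [CommRing B] [CommRing B'] [Algebra A B] [Algebra A' B']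
    [Algebra A B'] [Algebra B B'] [IsScalarTower A A' B'] [IsScalarTower A B B'] [Algebra.IsPushout A B A' B']
    {F F' : Type u} [AddCommGroup F] [Module B F] [Module A F] [IsScalarTower A B F] [AddCommGroup F']
    [Module B' F'] [Module B F'] [IsScalarTower B B' F'] [Module A' F'] [IsScalarTower A' B' F']
    [SMulCommClass A' B F'] (f : F →ₗ[B] F') (hf : IsBaseChange B' f)
    (Q : Type u) [AddCommGroup Q] [Module A' Q] [Module A Q] [IsScalarTower A A' Q] :
    ∃ ψ : F ⊗[A] Q →+ F' ⊗[A'] Q, Function.Bijective ψ ∧ (∀ x q, ψ (x ⊗ₜ q) = f x ⊗ₜ q) ∧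
      ∀ (b : B) z, ψ (b • z) = b • ψ z := by
  letI : Module A F' := Module.compHom F' (algebraMap A A')
  haveI : IsScalarTower A A' F' := IsScalarTower.of_algebraMap_smul fun _ _ => rfl
  haveI : IsScalarTower A B F' := IsScalarTower.of_algebraMap_smul fun a m => by
    show algebraMap A B a • m = algebraMap A A' a • m
    rw [← algebraMap_smul B' (algebraMap A A' a) m, ← IsScalarTower.algebraMap_apply,
      IsScalarTower.algebraMap_apply A B B', algebraMap_smul B' (algebraMap A B a) m]
  haveI : Algebra.IsPushout A A' B B' := Algebra.IsPushout.symm inferInstance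
  have hb := DevissShrinkLib.isBaseChange_restrict (P := A) (P' := A') f hf
  let ψ : F ⊗[A] Q ≃+ F' ⊗[A'] Q :=
    ((TensorProduct.comm A F Q).toAddEquiv.trans
      ((TensorProduct.AlgebraTensorModule.cancelBaseChange A A' A' Q F).symm.toAddEquiv.trans
        (TensorProduct.congr (LinearEquiv.refl A' Q) hb.equiv).toAddEquiv)).trans
      (TensorProduct.comm A' Q F').toAddEquiv
  have hψ : ∀ x q, ψ (x ⊗ₜ q) = f x ⊗ₜ q := fun x q => by
    show TensorProduct.comm A' Q F' (TensorProduct.congr (LinearEquiv.refl A' Q) hb.equiv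
      ((TensorProduct.AlgebraTensorModule.cancelBaseChange A A' A' Q F).symm (q ⊗ₜ x))) = _
    rw [TensorProduct.AlgebraTensorModule.cancelBaseChange_symm_tmul, TensorProduct.congr_tmul,
      TensorProduct.comm_tmul, hb.equiv_tmul, one_smul]
    rfl
  refine ⟨ψ.toAddMonoidHom, ψ.bijective, hψ, fun b z => ?_⟩
  show ψ (b • z) = b • ψ z
  induction z using TensorProduct.induction_on with
  | zero => simp
  | tmul x q => rw [TensorProduct.smul_tmul', hψ, hψ, map_smul, TensorProduct.smul_tmul']
  | add a c ha hc => rw [smul_add, map_add, map_add, ha, hc, smul_add]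

/-- Universal injectivity up to torsion is stable under base change. -/
theorem uinj_baseChange {B B' : Type u} [CommRing B] [CommRing B'] [Algebra A B] [Algebra A' B']
    [Algebra A B'] [Algebra B B'] [IsScalarTower A A' B'] [IsScalarTower A B B'] [Algebra.IsPushout A B A' B']
    {F M F' M' : Type u} [AddCommGroup F] [Module B F] [Module A F] [IsScalarTower A B F]
    [AddCommGroup M] [Module B M] [Module A M] [IsScalarTower A B M]
    [AddCommGroup F'] [Module B' F'] [Module B F'] [IsScalarTower B B' F'] [Module A' F'] [IsScalarTower A' B' F']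
    [SMulCommClass A' B F']
    [AddCommGroup M'] [Module B' M'] [Module B M'] [IsScalarTower B B' M'] [Module A' M'] [IsScalarTower A' B' M']
    [SMulCommClass A' B M']
    (fF : F →ₗ[B] F') (hF : IsBaseChange B' fF) (fM : M →ₗ[B] M') (hM : IsBaseChange B' fM)
    (α : F →ₗ[B] M) (α' : F' →ₗ[B'] M') (hα : ∀ x, α' (fF x) = fM (α x))
    {T : Submonoid B} (h : UInj A T α) : UInj A' (T.map (algebraMap B B')) α' := by
  intro Q _ _ z hz
  letI : Module A Q := Module.compHom Q (algebraMap A A')
  haveI : IsScalarTower A A' Q := IsScalarTower.of_algebraMap_smul fun _ _ => rfl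
  obtain ⟨ψF, hψF, hψFt, hψFs⟩ := exists_tensor_equiv (A := A) (A' := A') fF hF Q
  obtain ⟨ψM, hψM, hψMt, -⟩ := exists_tensor_equiv (A := A) (A' := A') fM hM Q
  obtain ⟨w, rfl⟩ := hψF.2 z
  have hnat : ∀ y, TensorProduct.AlgebraTensorModule.rTensor A' Q α' (ψF y) =
      ψM (TensorProduct.AlgebraTensorModule.rTensor A Q α y) := fun y => by
    induction y using TensorProduct.induction_on with
    | zero => simp
    | tmul x q =>
      rw [hψFt]
      show α' (fF x) ⊗ₜ q = ψM (α x ⊗ₜ q)
      rw [hψMt, hα]
    | add a b ha hb => simp only [map_add, ha, hb]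
  obtain ⟨t, ht, htw⟩ := h Q w (hψM.1 ((hnat w).symm.trans (hz.trans (map_zero ψM).symm)))
  refine ⟨algebraMap B B' t, ⟨t, ht, rfl⟩, ?_⟩
  rw [algebraMap_smul, ← hψFs, htw, map_zero]

/-- One step of a dévissage preserves flatness in dimensions `≥ n` of all base changes. -/
theorem fdb_iff_of_exact {P F M C : Type u} [CommRing P] [Algebra A P] [Module.Flat A P]
    [AddCommGroup F] [Module P F] [Module.Flat P F] [AddCommGroup M] [Module P M] [AddCommGroup C] [Module P C]
    [Module A F] [IsScalarTower A P F] [Module A M] [IsScalarTower A P M]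
    (α : F →ₗ[P] M) (γ : M →ₗ[P] C) (hγ : Function.Surjective γ) (hex : Function.Exact α γ)
    (f : A) (hfg : f ∣ g) (hα : UInj A (Algebra.algebraMapSubmonoid P (Submonoid.powers f)) α) :
    FDb n g A' P M ↔ FDb n g A' P C := by
  let P' := A' ⊗[A] P
  let α' := α.baseChange P'
  let γ' := γ.baseChange P'
  have hγ' : Function.Surjective γ' := LinearMap.lTensor_surjective P' hγ
  have hex' : Function.Exact α' γ' := lTensor_exact P' hex hγ
  haveI : Module.Flat A' (P' ⊗[P] F) := Module.Flat.trans A' P' _
  have hu : UInj A' ((Algebra.algebraMapSubmonoid P (Submonoid.powers f)).map (algebraMap P P')) α' :=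
    uinj_baseChange (TensorProduct.mk P P' F 1) (TensorProduct.isBaseChange P F P')
      (TensorProduct.mk P P' M 1) (TensorProduct.isBaseChange P M P') α α' (fun x => rfl) hα
  have key : ∀ (t : Ideal A') (Q : Ideal P') [t.IsPrime] [Q.IsPrime] [Q.LiesOver t], algebraMap A A' g ∉ t →
      (FlatCA.FlatAt A' Q (P' ⊗[P] M) ↔ FlatCA.FlatAt A' Q (P' ⊗[P] C)) := fun t Q _ _ _ hgt => by
    refine flatAt_iff_of_exact α' γ' hγ' hex' hu Q ?_
    rintro _ ⟨_, ⟨_, ⟨k, rfl⟩, rfl⟩, rfl⟩ hmem
    obtain ⟨c, rfl⟩ := hfg
    refine hgt ?_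
    have h1 : algebraMap A' P' (algebraMap A A' f) ∈ Q := by
      refine Ideal.IsPrime.mem_of_pow_mem inferInstance k ?_
      rw [← IsScalarTower.algebraMap_apply A A' P', IsScalarTower.algebraMap_apply A P P', ← map_pow, ← map_pow]
      exact hmem
    rw [map_mul, Ideal.over_def Q t]
    exact Ideal.mul_mem_right _ _ h1
  exact ⟨fun H t Q _ _ _ hg hQ => H t Q hg (mt (key t Q hg).1 hQ),
    fun H t Q _ _ _ hg hQ => H t Q hg (mt (key t Q hg).2 hQ)⟩

theorem isPushout_self (P : Type u) [CommRing P] [Algebra A P] : Algebra.IsPushout A P A P := inferInstance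

/-- Over the base itself no base change is needed. -/
theorem fdb_self_iff {P M : Type u} [CommRing P] [Algebra A P] [AddCommGroup M] [Module P M] [Module A M]
    [IsScalarTower A P M] : FDb n g A P M ↔ FDOn n A g P M :=
  fdb_iff_model (A' := A) (P' := P) (LinearMap.id : M →ₗ[P] M) (IsBaseChange.of_equiv (TensorProduct.lid P M) fun _ => one_smul _ _)

end FlatInDimLib
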