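import Groth.Agent.FlatInjLib.SemiLocal
import Groth.Agent.FlatInjLib.FinWeakAss
import Groth.Agent.FlatInjLib.FibreBasis
import Groth.Agent.DevissExLib.Support
import Groth.Agent.DevissFreeLib.Base
import Mathlib

/-!
# Flatness in dimensions at least `n` away from a closed subset of the base
-/

set_option autoImplicit false
set_option linter.all false

universe u

open scoped TensorProduct

namespace FlatInDimLib

open DevissExLib

section

variable (n : ℕ) {R : Type u} [CommRing R] (g : R)

/-- Flatness in dimensions `≥ n` at the primes of the base not containing `g`. -/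
def FDOn (R : Type u) [CommRing R] (g : R) (B : Type u) [CommRing B] [Algebra R B] (N : Type u)
    [AddCommGroup N] [Module B N] [Module R N] [IsScalarTower R B N] : Prop :=
  ∀ (t : Ideal R) (Q : Ideal B) [t.IsPrime] [Q.IsPrime] [Q.LiesOver t], g ∉ t → ¬ FlatCA.FlatAt R Q N →
    trd t Q < (n : Cardinal.{u})

variable {n g} {B : Type u} [CommRing B] [Algebra R B] {N : Type u}
  [AddCommGroup N] [Module B N] [Module R N] [IsScalarTower R B N]

theorem fdOn_of_flatInDimGE (h : FlatCA.FlatInDimGE n R B N) : FDOn n R g B N :=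
  fun t Q _ _ _ _ hQ => h t Q hQ

theorem flatInDimGE_iff_of_isUnit (hg : IsUnit g) : FlatCA.FlatInDimGE n R B N ↔ FDOn n R g B N :=
  ⟨fdOn_of_flatInDimGE, fun h t Q ht _ _ hQ => h t Q (fun hgt => ht.ne_top (Ideal.eq_top_of_isUnit_mem _ hgt hg)) hQ⟩

theorem fdOn_congr {M : Type u} [AddCommGroup M] [Module B M] [Module R M] [IsScalarTower R B M]
    (e : N ≃ₗ[B] M) : FDOn n R g B N ↔ FDOn n R g B M := by
  have h : ∀ (Q : Ideal B) [Q.IsPrime], FlatCA.FlatAt R Q N ↔ FlatCA.FlatAt R Q M := fun Q _ =>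
    FlatInjLib.flatAt_congr_of_surjective e.toLinearMap e.surjective Q fun z hz =>
      ⟨1, fun h1 => Ideal.IsPrime.ne_top inferInstance ((Ideal.eq_top_iff_one _).2 h1),
        by rw [one_smul]; exact e.injective (hz.trans (map_zero _).symm)⟩
  exact ⟨fun H t Q _ _ _ hg hQ => H t Q hg (mt (h Q).1 hQ), fun H t Q _ _ _ hg hQ => H t Q hg (mt (h Q).2 hQ)⟩

/-- Restriction of the ring along a finite map does not change flatness in dimensions `≥ n`. -/
theorem fdOn_finite_iff {P Q M : Type u} [CommRing P] [CommRing Q] [Algebra R P] [Algebra R Q] [Algebra P Q]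
    [IsScalarTower R P Q] [Module.Finite P Q] [AddCommGroup M] [Module Q M] [Module P M] [IsScalarTower P Q M]
    [Module R M] [IsScalarTower R Q M] [IsScalarTower R P M] :
    FDOn n R g P M ↔ FDOn n R g Q M := by
  haveI : Algebra.IsIntegral P Q := Algebra.IsIntegral.of_finite P Q
  constructor
  · intro h t 𝔔 _ _ _ hg hQ
    let 𝔮 := 𝔔.under P
    haveI : 𝔔.LiesOver 𝔮 := ⟨rfl⟩
    haveI : 𝔮.LiesOver t := Ideal.LiesOver.tower_bot 𝔔 𝔮 t
    rw [trd_eq_of_algebraic t 𝔮 𝔔 (isAlgebraic_residue 𝔮 𝔔)]
    exact h t 𝔮 hg fun hf => hQ (FlatInjLib.flatAt_over_of_flatAt 𝔮 𝔔 hf)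
  · intro h t 𝔮 _ _ _ hg hq
    by_contra hlt
    refine hq (FlatInjLib.flatAt_of_forall_over (C := Q) 𝔮 fun 𝔔 _ hover => ?_)
    haveI := hover
    haveI : 𝔔.LiesOver t := Ideal.LiesOver.trans 𝔔 𝔮 t
    by_contra hQ
    exact hlt ((trd_eq_of_algebraic t 𝔮 𝔔 (isAlgebraic_residue 𝔮 𝔔)) ▸ h t 𝔔 hg hQ)

end

section UInj

variable (R : Type u) [CommRing R] {B : Type u} [CommRing B] [Algebra R B] {F M : Type u}
  [AddCommGroup F] [Module B F] [Module R F] [IsScalarTower R B F]
  [AddCommGroup M] [Module B M] [Module R M] [IsScalarTower R B M]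

/-- Universally injective up to `T`-torsion. -/
def UInj (T : Submonoid B) (α : F →ₗ[B] M) : Prop :=
  ∀ (Q : Type u) [AddCommGroup Q] [Module R Q] (z : F ⊗[R] Q),
    TensorProduct.AlgebraTensorModule.rTensor R Q α z = 0 → ∃ t ∈ T, t • z = 0

variable {R}

theorem uinj_of_univInj (T : Submonoid B) (α : F →ₗ[B] M)
    (h : FlatCA.UnivInj R ((LocalizedModule.map T α).restrictScalars R)) : UInj R T α := by
  intro Q _ _ z hz
  let fF := LocalizedModule.mkLinearMap T F
  let fM := LocalizedModule.mkLinearMap T M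
  let ℓF := TensorProduct.AlgebraTensorModule.rTensor R Q fF
  let ℓM := TensorProduct.AlgebraTensorModule.rTensor R Q fM
  have hcomm : ∀ y, ((LocalizedModule.map T α).restrictScalars R).rTensor Q (ℓF y) =
      ℓM (TensorProduct.AlgebraTensorModule.rTensor R Q α y) := fun y => by
    induction y using TensorProduct.induction_on with
    | zero => simp
    | tmul a b =>
      show (LocalizedModule.map T α (LocalizedModule.mk a 1)) ⊗ₜ[R] b = LocalizedModule.mk (α a) 1 ⊗ₜ[R] b
      rw [LocalizedModule.map_mk]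
    | add a b ha hb => simp only [map_add, ha, hb]
  have h0 : ℓF z = 0 := (LinearMap.lTensor_inj_iff_rTensor_inj _ _).1 (h Q)
    ((hcomm z).trans (by rw [hz, map_zero, map_zero]))
  obtain ⟨t, ht⟩ := (IsLocalizedModule.eq_zero_iff T ℓF).1 h0
  exact ⟨t, t.2, ht⟩

theorem univInj_of_uinj {T S : Submonoid B} (hTS : T ≤ S) (α : F →ₗ[B] M) (h : UInj R T α) :
    FlatCA.UnivInj R ((LocalizedModule.map S α).restrictScalars R) := by
  intro Q _ _
  rw [LinearMap.lTensor_inj_iff_rTensor_inj]
  refine (injective_iff_map_eq_zero _).2 fun w hw => ?_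
  let fF := LocalizedModule.mkLinearMap S F
  let fM := LocalizedModule.mkLinearMap S M
  let ℓF := TensorProduct.AlgebraTensorModule.rTensor R Q fF
  let ℓM := TensorProduct.AlgebraTensorModule.rTensor R Q fM
  let m := TensorProduct.AlgebraTensorModule.rTensor R Q ((LocalizedModule.map S α).restrictScalars B)
  obtain ⟨⟨z, s⟩, hzs⟩ := IsLocalizedModule.surj S ℓF w
  have hcomm : ∀ y, m (ℓF y) = ℓM (TensorProduct.AlgebraTensorModule.rTensor R Q α y) := fun y => by
    induction y using TensorProduct.induction_on with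
    | zero => simp
    | tmul a b =>
      show (LocalizedModule.map S α (LocalizedModule.mk a 1)) ⊗ₜ[R] b = LocalizedModule.mk (α a) 1 ⊗ₜ[R] b
      rw [LocalizedModule.map_mk]
    | add a b ha hb => simp only [map_add, ha, hb]
  have h0 : ℓM (TensorProduct.AlgebraTensorModule.rTensor R Q α z) = 0 := by
    rw [← hcomm, ← hzs]
    show m ((s : B) • w) = 0
    rw [map_smul]
    exact (congrArg _ hw).trans (smul_zero _)
  obtain ⟨s', hs'⟩ := (IsLocalizedModule.eq_zero_iff S ℓM).1 h0
  rw [Submonoid.smul_def, ← map_smul] at hs'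
  obtain ⟨t, ht, htz⟩ := h Q _ hs'
  have hz : ℓF z = 0 := (IsLocalizedModule.eq_zero_iff S ℓF).2 ⟨⟨t * (s' : B), S.mul_mem (hTS ht) s'.2⟩,
    by rw [Submonoid.smul_def, mul_smul]; exact htz⟩
  exact (Module.End.isUnit_iff _).1 (IsLocalizedModule.map_units ℓF s) |>.1
    ((hzs.trans hz).trans (map_zero _).symm)

/-- One step of a dévissage preserves flatness at a prime. -/
theorem flatAt_iff_of_exact {C : Type u} [AddCommGroup C] [Module B C] [Module R C] [IsScalarTower R B C]
    [Module.Flat R F] (α : F →ₗ[B] M) (γ : M →ₗ[B] C) (hγ : Function.Surjective γ)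
    (hex : Function.Exact α γ) {T : Submonoid B} (hα : UInj R T α) (Q : Ideal B) [Q.IsPrime]
    (hT : T ≤ Q.primeCompl) : FlatCA.FlatAt R Q M ↔ FlatCA.FlatAt R Q C := by
  let S := Q.primeCompl
  have hu := univInj_of_uinj hT α hα
  have hinj : Function.Injective (LocalizedModule.map S α) := fun a b hab => by
    refine (TensorProduct.lid R _).symm.injective (hu R ?_)
    exact congrArg (fun x => (1 : R) ⊗ₜ[R] x) hab
  have hs : Function.Surjective (LocalizedModule.map S γ) := fun y => by
    induction y using LocalizedModule.induction_on with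
    | h c s => obtain ⟨m, rfl⟩ := hγ c; exact ⟨LocalizedModule.mk m s, LocalizedModule.map_mk ..⟩
  refine ⟨fun hM => ?_, fun hC => ?_⟩
  · haveI : Module.Flat R (LocalizedModule S M) := hM
    exact DevissFreeLib.flat_cokernel S α γ hγ hex hu
  · haveI : Module.Flat R (LocalizedModule S C) := hC
    haveI : Module.Flat R (LocalizedModule S F) :=
      FlatInjLib.flat_of_isLocalizedModule S (LocalizedModule.mkLinearMap S F)
    exact FlatInjLib.flat_of_extension ((LocalizedModule.map S α).restrictScalars R)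
      ((LocalizedModule.map S γ).restrictScalars R) hinj hs (LocalizedModule.map_exact S α γ hex)

end UInj

end FlatInDimLib
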