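import Groth.Agent.FlatInjLib.GenericFibre
import Groth.Agent.DevissExLib.Support
import Groth.Agent.DevissExLib.QuasiFin
import Groth.Agent.DevissExLib.FibreEtale
import Groth.Agent.DevissExLib.Chain
import Groth.Agent.EtaEtLib.Fibres
import Groth.Agent.FibDimLib.FieldExt
import Groth.Agent.FlatInjLib.AssFlat
import Mathlib

/-!
# Generic points of the fibres of smooth algebras with geometrically irreducible fibres
-/

set_option autoImplicit false
set_option linter.all false

universe u

open CategoryTheory AlgebraicGeometry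
open scoped TensorProduct

namespace FlatInDimLib

theorem ringKrullDim_eq_of_smooth (K B : Type u) [Field K] [CommRing B] [Nontrivial B] [Algebra K B] (d : ℕ)
    [SmoothOfRelativeDimension d (Spec.map (CommRingCat.ofHom (algebraMap K B)))] : ringKrullDim B = d := by
  let f := Spec.map (CommRingCat.ofHom (algebraMap K B))
  refine le_antisymm (EtaEtLib.ringKrullDim_le_of_smooth K B d) ?_
  rw [← PrimeSpectrum.topologicalKrullDim_eq_ringKrullDim B]
  show _ ≤ topologicalKrullDim ↥(Spec (CommRingCat.of B))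
  rw [FibDimLib.topologicalKrullDim_eq_iSup_localDim]
  obtain ⟨x⟩ := (inferInstance : Nonempty (PrimeSpectrum B))
  refine le_iSup_of_le (show ↥(Spec (CommRingCat.of B)) from x) ?_
  exact ((SmoothDimLib.fibreDimAt_eq_localDim f _).symm.trans
    (FibDimLib.fibreDimAt_smoothOfRelativeDimension d f _)).ge

section

variable {R D : Type u} [CommRing R] [CommRing D] [Algebra R D] [Algebra.Smooth R D] {e : ℕ}

theorem liesOver_map (hg : FlatCA.GeomIrredFibres R D) (t : Ideal R) [t.IsPrime] :
    (t.map (algebraMap R D)).LiesOver t :=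
  ⟨(DevissFreeLib.comap_map_eq hg t).symm⟩

theorem comap_incl_bot (hg : FlatCA.GeomIrredFibres R D) (t : Ideal R) [t.IsPrime] :
    (⊥ : Ideal (t.Fiber D)).comap (FibAssLib.incl D t) = t.map (algebraMap R D) := by
  haveI := DevissExLib.map_isPrime_of_geomIrred hg t
  refine le_antisymm (fun d hd => ?_) ?_
  · by_contra hdP
    exact (FlatInjLib.fibre_isDomain hg t).2 d hdP hd
  · rw [← Ideal.map_le_iff_le_comap, FlatInjLib.map_incl_eq_bot]

theorem ringKrullDim_fibre (hs : FlatCA.SmoothRelDim e R D) (hg : FlatCA.GeomIrredFibres R D)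
    (t : Ideal R) [t.IsPrime] : ringKrullDim (t.Fiber D) = e := by
  haveI := DevissExLib.map_isPrime_of_geomIrred hg t
  haveI := (FlatInjLib.fibre_isDomain hg t).1
  haveI := FlatInjLib.smoothRelDim_fibre hs t
  exact ringKrullDim_eq_of_smooth t.ResidueField (t.Fiber D) e

/-- The generic point of a fibre has transcendence degree the relative dimension. -/
theorem trd_generic (hg : FlatCA.GeomIrredFibres R D)
    (t : Ideal R) [t.IsPrime] (hd : ringKrullDim (t.Fiber D) = e) [(t.map (algebraMap R D)).IsPrime] [(t.map (algebraMap R D)).LiesOver t] :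
    DevissExLib.trd t (t.map (algebraMap R D)) = (e : Cardinal.{u}) := by
  haveI := (FlatInjLib.fibre_isDomain hg t).1
  haveI : (⊥ : Ideal (t.Fiber D)).IsPrime := Ideal.isPrime_bot
  obtain ⟨m, hm, hm'⟩ := DevissExLib.exists_dim_eq_trd t ⊥ (t.map (algebraMap R D)) (comap_incl_bot hg t).symm
  rw [ringKrullDim_eq_of_ringEquiv (RingEquiv.quotientBot (t.Fiber D)), hd] at hm
  have : e = m := by exact_mod_cast hm
  rw [hm', this]

/-- The other points of a fibre have smaller transcendence degree. -/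
theorem trd_lt (hg : FlatCA.GeomIrredFibres R D)
    (t : Ideal R) [t.IsPrime] (hd : ringKrullDim (t.Fiber D) = e) (Q : Ideal D) [Q.IsPrime] [Q.LiesOver t] (hQ : Q ≠ t.map (algebraMap R D)) :
    DevissExLib.trd t Q < (e : Cardinal.{u}) := by
  haveI := DevissExLib.map_isPrime_of_geomIrred hg t
  haveI := (FlatInjLib.fibre_isDomain hg t).1
  haveI : (⊥ : Ideal (t.Fiber D)).IsPrime := Ideal.isPrime_bot
  obtain ⟨x, hx⟩ := (DevissExLib.mem_range_comap_incl t (⟨Q, inferInstance⟩ : PrimeSpectrum D)).2 (Ideal.over_def Q t).symm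
  have hxQ : x.asIdeal.comap (FibAssLib.incl D t) = Q := congrArg PrimeSpectrum.asIdeal hx
  obtain ⟨j, hj, hj0⟩ : ∃ j ∈ x.asIdeal, j ∉ (⊥ : Ideal (t.Fiber D)) := by
    by_contra hno
    push Not at hno
    exact hQ (by rw [← hxQ, show x.asIdeal = ⊥ from le_bot_iff.1 hno, comap_incl_bot hg t])
  obtain ⟨m, hm, hm'⟩ := DevissExLib.exists_dim_eq_trd t x.asIdeal Q hxQ.symm
  have hlt : ringKrullDim (t.Fiber D ⧸ x.asIdeal) < (e : WithBot ℕ∞) := DevissExLib.ringKrullDim_quotient_lt_of_lt ⊥ x.asIdeal bot_le hj hj0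
    (n := e) (by rw [ringKrullDim_eq_of_ringEquiv (RingEquiv.quotientBot (t.Fiber D)), hd])
  rw [hm] at hlt
  rw [hm']
  exact_mod_cast hlt

theorem trd_le (hg : FlatCA.GeomIrredFibres R D)
    (t : Ideal R) [t.IsPrime] (hd : ringKrullDim (t.Fiber D) = e) (Q : Ideal D) [Q.IsPrime] [Q.LiesOver t] :
    DevissExLib.trd t Q ≤ (e : Cardinal.{u}) := by
  by_cases hQ : Q = t.map (algebraMap R D)
  · subst hQ
    exact (trd_generic hg t hd).le
  · exact (trd_lt hg t hd Q hQ).le

end

section FibDim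

/-- The fibres away from the zero locus of `g` have dimension `e`. -/
def FibDim {A : Type u} [CommRing A] (e : ℕ) (g : A) (P : Type u) [CommRing P] [Algebra A P] : Prop :=
  ∀ (t : Ideal A) [t.IsPrime], g ∉ t → ringKrullDim (t.Fiber P) = e

variable {A P : Type u} [CommRing A] [CommRing P] [Algebra A P] [Algebra.Smooth A P] {e : ℕ}

theorem fibDim_of_smoothRelDim (hs : FlatCA.SmoothRelDim e A P) (hg : FlatCA.GeomIrredFibres A P) (g : A) :
    FibDim e g P := fun t _ _ => ringKrullDim_fibre hs hg t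

theorem ringKrullDim_fibre_tensor (A' : Type u) [CommRing A'] [Algebra A A'] (t' : Ideal A') [t'.IsPrime] :
    ringKrullDim (t'.Fiber (A' ⊗[A] P)) = ringKrullDim ((t'.comap (algebraMap A A')).Fiber P) := by
  let t := t'.comap (algebraMap A A')
  let k := t.ResidueField
  let K := t'.ResidueField
  haveI : t'.LiesOver t := ⟨rfl⟩
  letI : Algebra k K := (Ideal.ResidueField.mapₐ t t' (Algebra.ofId A A') rfl).toRingHom.toAlgebra
  haveI : IsScalarTower A k K :=
    IsScalarTower.of_algebraMap_eq fun r => ((Ideal.ResidueField.mapₐ t t' (Algebra.ofId A A') rfl).commutes r).symm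
  haveI : Algebra.FiniteType k (k ⊗[A] P) := inferInstance
  exact (ringKrullDim_eq_of_ringEquiv (Algebra.TensorProduct.cancelBaseChange A A' K K P).toRingEquiv).trans
    ((ringKrullDim_eq_of_ringEquiv ((Algebra.TensorProduct.comm k (k ⊗[A] P) K).toRingEquiv.trans
      (Algebra.TensorProduct.cancelBaseChange A k K K P).toRingEquiv)).symm.trans
      (FibDimLib.ringKrullDim_baseChange k K (k ⊗[A] P)))

theorem fibDim_baseChange {g : A} (h : FibDim e g P) (A' : Type u) [CommRing A'] [Algebra A A'] :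
    FibDim e (algebraMap A A' g) (A' ⊗[A] P) := fun t' _ hg => by
  rw [ringKrullDim_fibre_tensor A' t']
  exact h _ hg

/-- The relative dimension is constant near every point of the base. -/
theorem exists_fibDim (hgi : FlatCA.GeomIrredFibres A P) (s : Ideal A) [s.IsPrime] :
    ∃ (e : ℕ) (g : A), g ∉ s ∧ FibDim e g P := by
  classical
  haveI := DevissExLib.map_isPrime_of_geomIrred hgi s
  let ξ := s.map (algebraMap A P)
  haveI : Algebra.IsSmoothAt A ξ := inferInstance
  obtain ⟨b, hb, hstd⟩ := Algebra.IsSmoothAt.exists_notMem_isStandardSmooth A ξ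
  let Pb := Localization.Away b
  haveI := hstd
  obtain ⟨ι, σ, _, _, ⟨Pr⟩⟩ := hstd
  let e := Pr.dimension
  haveI : Algebra.IsStandardSmoothOfRelativeDimension e A Pb := ⟨ι, σ, inferInstance, inferInstance, Pr, rfl⟩
  have hsb : FlatCA.SmoothRelDim e A Pb := by
    show SmoothOfRelativeDimension e _
    rw [HasRingHomProperty.Spec_iff (P := @SmoothOfRelativeDimension e)]
    exact RingHom.locally_of RingHom.isStandardSmoothOfRelativeDimension_respectsIso _
      ((RingHom.isStandardSmoothOfRelativeDimension_algebraMap e).mpr inferInstance)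
  obtain ⟨_, ⟨_, ⟨g, rfl⟩, rfl⟩, hgs, hsub⟩ :=
    PrimeSpectrum.isBasis_basic_opens.exists_subset_of_mem_open
      (a := (⟨s, inferInstance⟩ : PrimeSpectrum A))
      (u := PrimeSpectrum.comap (algebraMap A P) '' (PrimeSpectrum.basicOpen b : Set (PrimeSpectrum P)))
      ⟨⟨ξ, inferInstance⟩, hb, PrimeSpectrum.ext (DevissFreeLib.comap_map_eq hgi s)⟩
      (PrimeSpectrum.isOpenMap_comap_of_hasGoingDown_of_finitePresentation _
        (PrimeSpectrum.basicOpen b).isOpen)
  refine ⟨e, g, hgs, fun t _ hgt => ?_⟩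
  obtain ⟨x, hxb, hx⟩ := hsub (show (⟨t, inferInstance⟩ : PrimeSpectrum A) ∈ _ from hgt)
  haveI := DevissExLib.map_isPrime_of_geomIrred hgi t
  let Q := t.map (algebraMap A P)
  haveI := liesOver_map hgi t
  have hle : Q ≤ x.asIdeal := Ideal.map_le_iff_le_comap.2 (congrArg PrimeSpectrum.asIdeal hx).ge
  have hbQ : b ∉ Q := fun h => hxb (hle h)
  let Qb := Q.map (algebraMap P Pb)
  haveI : Qb.IsPrime := IsLocalization.isPrime_of_isPrime_disjoint (Submonoid.powers b) _ _ inferInstance
    ((Ideal.disjoint_powers_iff_notMem_of_isPrime b).2 hbQ)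
  have hQb : Qb.comap (algebraMap P Pb) = Q :=
    IsLocalization.comap_map_of_isPrime_disjoint (Submonoid.powers b) Pb inferInstance
      ((Ideal.disjoint_powers_iff_notMem_of_isPrime b).2 hbQ)
  haveI : Qb.LiesOver Q := ⟨hQb.symm⟩
  haveI : Qb.LiesOver t := Ideal.LiesOver.trans Qb Q t
  haveI : Algebra.Smooth A Pb := inferInstance
  have htr : DevissExLib.trd t Qb = DevissExLib.trd t Q := by
    haveI : Algebra.QuasiFinite P Pb := inferInstance
    exact DevissExLib.trd_eq_of_algebraic t Q Qb (DevissExLib.isAlgebraic_residue Q Qb)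
  obtain ⟨y, hy⟩ := (DevissExLib.mem_range_comap_incl t (⟨Qb, inferInstance⟩ : PrimeSpectrum Pb)).2
    (Ideal.over_def Qb t).symm
  haveI : _root_.IsReduced (t.Fiber Pb) := isReduced_smooth t.ResidueField (t.Fiber Pb)
  have hy0 : y.asIdeal = ⊥ := by
    refine le_bot_iff.1 ?_
    rw [← nilradical_eq_bot_iff.2 (inferInstance : _root_.IsReduced (t.Fiber Pb)), nilradical_eq_sInf]
    refine le_sInf fun J (hJ : J.IsPrime) => ?_
    haveI := hJ
    haveI := FlatInjLib.comap_incl_liesOver (S := Pb) t J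
    have h1 : Qb ≤ J.comap (FibAssLib.incl Pb t) := by
      rw [show Qb = t.map (algebraMap A Pb) by
        simp only [Qb, Q]; rw [Ideal.map_map, ← IsScalarTower.algebraMap_eq]]
      exact Ideal.map_le_iff_le_comap.2 (Ideal.over_def (J.comap (FibAssLib.incl Pb t)) t).le
    rw [← FlatInjLib.fiberIdeal_comap t J, ← FlatInjLib.fiberIdeal_comap t y.asIdeal,
      show y.asIdeal.comap (FibAssLib.incl Pb t) = Qb from congrArg PrimeSpectrum.asIdeal hy]
    exact Ideal.map_mono h1
  haveI : Nontrivial (t.Fiber Pb) := nontrivial_of_ne 0 1 fun h01 => y.2.ne_top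
    ((Ideal.eq_top_iff_one _).2 (h01 ▸ y.asIdeal.zero_mem))
  haveI := FlatInjLib.smoothRelDim_fibre hsb t
  obtain ⟨m, hm, hm'⟩ := DevissExLib.exists_dim_eq_trd t y.asIdeal Qb (congrArg PrimeSpectrum.asIdeal hy).symm
  rw [hy0, ringKrullDim_eq_of_ringEquiv (RingEquiv.quotientBot (t.Fiber Pb)),
    ringKrullDim_eq_of_smooth t.ResidueField (t.Fiber Pb) e] at hm
  have hem : e = m := by exact_mod_cast hm
  haveI := (FlatInjLib.fibre_isDomain hgi t).1
  haveI : (⊥ : Ideal (t.Fiber P)).IsPrime := Ideal.isPrime_bot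
  obtain ⟨m', hm1, hm2⟩ := DevissExLib.exists_dim_eq_trd t ⊥ Q (comap_incl_bot hgi t).symm
  rw [ringKrullDim_eq_of_ringEquiv (RingEquiv.quotientBot (t.Fiber P))] at hm1
  rw [hm1]
  have : ((m' : ℕ) : Cardinal.{u}) = (m : ℕ) := hm2.symm.trans (htr.symm.trans hm')
  have h3 : m' = m := Nat.cast_injective this
  rw [h3, hem]

end FibDim

end FlatInDimLib
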