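import Groth.Agent.FlatInDimLib.BC
import Groth.Agent.FlatInDimLib.Generic
import Groth.Agent.DevissExLib.ChainBC
import Mathlib

/-!
# Flatness in dimensions at least `d` along a complete dévissage
-/

set_option autoImplicit false
set_option linter.all false

universe u

open scoped TensorProduct

namespace FlatInDimLib

attribute [local instance] Algebra.TensorProduct.rightAlgebra

theorem fdb_of_dim_lt {A P M : Type u} [CommRing A] [CommRing P] [Algebra A P] [Algebra.Smooth A P]
    [AddCommGroup M] [Module P M] {e d : ℕ} (hgi : FlatCA.GeomIrredFibres A P) {g : A} (hs : FibDim e g P)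
    (hed : e < d) (A' : Type u) [CommRing A'] [Algebra A A'] : FDb d g A' P M := fun t Q _ _ _ hgt _ =>
  lt_of_le_of_lt (trd_le (DevissFreeLib.geomIrred_baseChange A' hgi) t (fibDim_baseChange hs A' t hgt) Q)
    (Nat.cast_lt.2 hed)

theorem fdb_of_subsingleton {A P M : Type u} [CommRing A] [CommRing P] [Algebra A P]
    [AddCommGroup M] [Module P M] [Subsingleton M] (n : ℕ) (g : A) (A' : Type u) [CommRing A'] [Algebra A A'] :
    FDb n g A' P M := fun t Q _ _ _ _ hQ => (hQ (by
  haveI : Subsingleton ((A' ⊗[A] P) ⊗[P] M) := inferInstance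
  haveI : Subsingleton (LocalizedModule Q.primeCompl ((A' ⊗[A] P) ⊗[P] M)) := LocalizedModule.instSubsingleton ..
  exact (inferInstance : Module.Flat A' (LocalizedModule Q.primeCompl ((A' ⊗[A] P) ⊗[P] M))))).elim

theorem FibDim.of_dvd {A P : Type u} [CommRing A] [CommRing P] [Algebra A P] {e : ℕ} {g g' : A}
    (h : FibDim e g P) (hd : g ∣ g') : FibDim e g' P := fun t _ hg' => h t fun hg => hg' (by
  obtain ⟨c, rfl⟩ := hd
  exact t.mul_mem_right c hg)

variable {A B : Type u} [CommRing A] [CommRing B] [Algebra A B] [Algebra.FinitePresentation A B]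
  {N : Type u} [AddCommGroup N] [Module B N] [Module A N] [IsScalarTower A B N] [Module.FinitePresentation B N]
  {s : Ideal A} [s.IsPrime] (D : FlatCA.CompleteDevissage A B N s)

/-- The condition on `N` is the condition on `M i`, away from the zero locus of some `g ∉ s`. -/
def Reduced (i : ℕ) : Prop :=
  Module.FinitePresentation (D.B i) (D.M i) ∧ ∃ g : A, g ∉ s ∧ ∀ (k : ℕ) (g' : A), g ∣ g' →
    ∀ (A' : Type u) [CommRing A'] [Algebra A A'], FDb k g' A' B N ↔ FDb k g' A' (D.B i) (D.M i)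

theorem reduced_zero : Reduced D 0 := by
  haveI := D.tBAM 0
  haveI := D.tRBA 0
  haveI := D.fpSA
  haveI := D.finiteBA 0 D.pos
  haveI := D.smooth 0 D.pos
  haveI : Module.Finite B (D.A 0) := Module.Finite.of_surjective (Algebra.linearMap B (D.A 0)) D.surjSA
  haveI := D.tSAM
  haveI : Module.FinitePresentation B (D.M 0) :=
    Module.finitePresentation_of_surjective D.isoN.toLinearMap D.isoN.surjective (by
      rw [LinearEquiv.ker]; exact Submodule.fg_bot)
  haveI : Module.FinitePresentation (D.A 0) (D.M 0) := DevissFreeLib.fp_of_restrictScalars B (D.A 0) (D.M 0)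
  haveI : Algebra.FinitePresentation A (D.A 0) := Algebra.FinitePresentation.trans A B (D.A 0)
  refine ⟨DevissFreeLib.fp_of_finite A (D.B 0) (D.A 0) (D.M 0), 1,
    fun h => Ideal.IsPrime.ne_top inferInstance ((Ideal.eq_top_iff_one _).2 h), fun k g' _ A' _ _ => ?_⟩
  exact (fdb_congr D.isoN).trans ((fdb_iff_finite (P := B) (Q := D.A 0)).trans
    (fdb_iff_finite (P := D.B 0) (Q := D.A 0)).symm)

theorem flatAt_generic {i : ℕ} (hi : i < D.n) {e d : ℕ} (hs : ringKrullDim (s.Fiber (D.B i)) = e) (hde : d < e)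
    (hflat : FlatCA.FlatInDimGE (d + 1) A B N) {g : A} (hg : g ∉ s)
    (h : ∀ (A' : Type u) [CommRing A'] [Algebra A A'], FDb (d + 1) g A' B N ↔ FDb (d + 1) g A' (D.B i) (D.M i)) :
    haveI := D.tRBM i
    haveI := D.hp i
    FlatCA.FlatAt A (s.map (algebraMap A (D.B i))) (D.M i) := by
  haveI := D.tRBM i
  haveI := D.hp i
  haveI := D.smooth i hi
  have hgi := D.geomIrred i hi
  haveI := liesOver_map hgi s
  have h1 : FDOn (d + 1) A g (D.B i) (D.M i) :=
    fdb_self_iff.1 ((h A).1 (fdb_self_iff.2 (fdOn_of_flatInDimGE hflat)))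
  by_contra hn
  have h2 := h1 s (s.map (algebraMap A (D.B i))) hg hn
  rw [trd_generic hgi s hs] at h2
  exact absurd (Nat.cast_lt.1 h2) (by omega)

theorem exists_uinj {i : ℕ} (hi : i < D.n) {e d : ℕ} (hs : ringKrullDim (s.Fiber (D.B i)) = e) (hde : d < e)
    (hflat : FlatCA.FlatInDimGE (d + 1) A B N) [Module.FinitePresentation (D.B i) (D.M i)] {g : A} (hg : g ∉ s)
    (h : ∀ (A' : Type u) [CommRing A'] [Algebra A A'], FDb (d + 1) g A' B N ↔ FDb (d + 1) g A' (D.B i) (D.M i)) :
    haveI := D.tRBM i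
    ∃ f : A, f ∉ s ∧ UInj A (Algebra.algebraMapSubmonoid (D.B i) (Submonoid.powers f)) (D.α i) := by
  haveI := D.tRBM i
  haveI := D.hp i
  haveI := D.smooth i hi
  obtain ⟨f, hf, hU⟩ := DevissFreeLib.step_nhd (D.geomIrred i hi) s (D.α i) (D.fibreIso i hi)
    (flatAt_generic D hi hs hde hflat hg h)
  exact ⟨f, hf, uinj_of_univInj _ _ (hU (Submonoid.powers f) ⟨1, by rw [mul_one]; exact Submonoid.mem_powers f⟩)⟩

theorem reduced_succ {i : ℕ} (hi : i + 1 < D.n) {e d : ℕ} (hs : ringKrullDim (s.Fiber (D.B i)) = e) (hde : d < e)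
    (hflat : FlatCA.FlatInDimGE (d + 1) A B N) (h : Reduced D i) : Reduced D (i + 1) := by
  obtain ⟨hfp, g, hg, H⟩ := h
  have hi' : i < D.n := Nat.lt_of_succ_lt hi
  haveI := hfp
  haveI := D.tRBM i
  haveI := D.smooth i hi'
  haveI := D.smooth (i + 1) hi
  haveI := D.tRBA' i
  haveI := D.tB'AM i
  haveI := D.tBAM (i + 1)
  haveI := D.tRBA (i + 1)
  haveI := D.fpBA' i hi
  haveI := D.finiteBA (i + 1) hi
  obtain ⟨f, hf, hU⟩ := exists_uinj D hi' hs hde hflat hg (H (d + 1) g dvd_rfl)
  haveI : Module.Finite (D.B i) (D.A (i + 1)) :=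
    Module.Finite.of_surjective (Algebra.linearMap (D.B i) (D.A (i + 1))) (D.surjBA' i hi)
  haveI : Module.FinitePresentation (D.B i) (D.M i ⧸ LinearMap.range (D.α i)) :=
    Module.finitePresentation_of_surjective (LinearMap.range (D.α i)).mkQ (Submodule.mkQ_surjective _) (by
      rw [Submodule.ker_mkQ, ← Submodule.map_top]; exact Module.Finite.fg_top.map _)
  haveI : Module.FinitePresentation (D.B i) (D.M (i + 1)) :=
    Module.finitePresentation_of_surjective (D.isoCoker i hi).toLinearMap (D.isoCoker i hi).surjective (by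
      rw [LinearEquiv.ker]; exact Submodule.fg_bot)
  haveI : Module.FinitePresentation (D.A (i + 1)) (D.M (i + 1)) :=
    DevissFreeLib.fp_of_restrictScalars (D.B i) (D.A (i + 1)) (D.M (i + 1))
  haveI : Algebra.FinitePresentation A (D.A (i + 1)) := Algebra.FinitePresentation.trans A (D.B i) (D.A (i + 1))
  refine ⟨DevissFreeLib.fp_of_finite A (D.B (i + 1)) (D.A (i + 1)) (D.M (i + 1)), g * f,
    Ideal.IsPrime.mul_notMem inferInstance hg hf, fun k g' hg' A' _ _ => ?_⟩
  exact (H k g' ((dvd_mul_right g f).trans hg') A').trans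
    ((fdb_iff_of_exact (D.α i) (LinearMap.range (D.α i)).mkQ (Submodule.mkQ_surjective _)
      (LinearMap.exact_map_mkQ_range (D.α i)) f ((dvd_mul_left f g).trans hg') hU).trans
    ((fdb_congr (D.isoCoker i hi)).trans ((fdb_iff_finite (P := D.B i) (Q := D.A (i + 1))).trans
      (fdb_iff_finite (P := D.B (i + 1)) (Q := D.A (i + 1))).symm)))

theorem true_of_last {e d : ℕ} (hs : ringKrullDim (s.Fiber (D.B (D.n - 1))) = e) (hde : d < e)
    (hflat : FlatCA.FlatInDimGE (d + 1) A B N) (h : Reduced D (D.n - 1)) :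
    ∃ g : A, g ∉ s ∧ ∀ (A' : Type u) [CommRing A'] [Algebra A A'], FDb d g A' B N := by
  obtain ⟨hfp, g, hg, H⟩ := h
  have hi : D.n - 1 < D.n := by have := D.pos; omega
  haveI := hfp
  haveI := D.tRBM (D.n - 1)
  haveI := D.smooth (D.n - 1) hi
  obtain ⟨f, hf, hU⟩ := exists_uinj D hi hs hde hflat hg (H (d + 1) g dvd_rfl)
  haveI : Subsingleton (D.M (D.n - 1) ⧸ LinearMap.range (D.α (D.n - 1))) :=
    Submodule.Quotient.subsingleton_iff.2 (LinearMap.range_eq_top.2 D.cokerLast)
  refine ⟨g * f, Ideal.IsPrime.mul_notMem inferInstance hg hf, fun A' _ _ => ?_⟩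
  exact (H d _ (dvd_mul_right g f) A').2 ((fdb_iff_of_exact (D.α (D.n - 1))
    (LinearMap.range (D.α (D.n - 1))).mkQ (Submodule.mkQ_surjective _)
    (LinearMap.exact_map_mkQ_range (D.α (D.n - 1))) f (dvd_mul_left f g) hU).2 (fdb_of_subsingleton d _ A'))

/-- Near `s` the condition is always true or it is the condition for one step of relative dimension `d`. -/
theorem exists_reduction (d : ℕ) (hflat : FlatCA.FlatInDimGE (d + 1) A B N)
    (hdim : ∀ i, i < D.n → ∃ (e : ℕ) (g : A), g ∉ s ∧ FibDim e g (D.B i)) :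
    (∃ g : A, g ∉ s ∧ ∀ (A' : Type u) [CommRing A'] [Algebra A A'], FDb d g A' B N) ∨
      ∃ i, i < D.n ∧ (∃ g : A, g ∉ s ∧ FibDim d g (D.B i)) ∧ Reduced D i := by
  have key : ∀ m i, i + m + 1 = D.n → Reduced D i →
      (∃ g : A, g ∉ s ∧ ∀ (A' : Type u) [CommRing A'] [Algebra A A'], FDb d g A' B N) ∨
      ∃ i, i < D.n ∧ (∃ g : A, g ∉ s ∧ FibDim d g (D.B i)) ∧ Reduced D i := by
    intro m
    induction m with
    | zero =>
      intro i hin hR
      obtain ⟨e, g₀, hg₀, he⟩ := hdim i (by omega)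
      rcases lt_trichotomy e d with hlt | rfl | hgt
      · obtain ⟨-, g, hg, H⟩ := hR
        haveI := D.smooth i (by omega)
        exact Or.inl ⟨g * g₀, Ideal.IsPrime.mul_notMem inferInstance hg hg₀, fun A' _ _ =>
          (H d _ (dvd_mul_right g g₀) A').2 (fdb_of_dim_lt (D.geomIrred i (by omega))
            (he.of_dvd (dvd_mul_left g₀ g)) hlt A')⟩
      · exact Or.inr ⟨i, by omega, ⟨g₀, hg₀, he⟩, hR⟩
      · obtain rfl : i = D.n - 1 := by omega
        exact Or.inl (true_of_last D (he s hg₀) hgt hflat hR)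
    | succ m ih =>
      intro i hin hR
      obtain ⟨e, g₀, hg₀, he⟩ := hdim i (by omega)
      rcases lt_trichotomy e d with hlt | rfl | hgt
      · obtain ⟨-, g, hg, H⟩ := hR
        haveI := D.smooth i (by omega)
        exact Or.inl ⟨g * g₀, Ideal.IsPrime.mul_notMem inferInstance hg hg₀, fun A' _ _ =>
          (H d _ (dvd_mul_right g g₀) A').2 (fdb_of_dim_lt (D.geomIrred i (by omega))
            (he.of_dvd (dvd_mul_left g₀ g)) hlt A')⟩
      · exact Or.inr ⟨i, by omega, ⟨g₀, hg₀, he⟩, hR⟩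
      · exact ih (i + 1) (by omega) (reduced_succ D (by omega) (he s hg₀) hgt hflat hR)
  exact key (D.n - 1) 0 (by have := D.pos; omega) (reduced_zero D)

end FlatInDimLib
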