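import Mathlib

/-!
# A disjoint union of strata of the spectrum of a ring
-/

set_option autoImplicit false
set_option linter.all false

universe u

open CategoryTheory CategoryTheory.Limits AlgebraicGeometry

namespace FlatInDimLib

/-- Monomorphisms with disjoint images glue to a monomorphism on the coproduct. -/
theorem mono_sigmaDesc {ι : Type u} {X : ι → Scheme.{u}} {S : Scheme.{u}} (f : ∀ j, X j ⟶ S)
    [∀ j, Mono (f j)] (hd : ∀ j k (x : X j) (y : X k), f j x = f k y → j = k) : Mono (Sigma.desc f) := by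
  refine ⟨fun {T} g h hgh => Scheme.hom_ext_of_forall g h fun t => ?_⟩
  obtain ⟨⟨j, x⟩, hx⟩ := (sigmaMk X).surjective (g t)
  rw [sigmaMk_mk] at hx
  let V : T.Opens := g ⁻¹ᵁ (Sigma.ι X j).opensRange
  refine ⟨V, ⟨x, hx⟩, ?_⟩
  have hg : Set.range (V.ι ≫ g) ⊆ Set.range (Sigma.ι X j) := by
    rintro _ ⟨w, rfl⟩
    exact w.2
  have hh : Set.range (V.ι ≫ h) ⊆ Set.range (Sigma.ι X j) := by
    rintro _ ⟨w, rfl⟩
    obtain ⟨z, hz⟩ := w.2
    obtain ⟨⟨k, y⟩, hy⟩ := (sigmaMk X).surjective ((V.ι ≫ h) w)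
    rw [sigmaMk_mk] at hy
    have h1 : f k y = f j z := by
      rw [← Sigma.ι_desc f k, ← Sigma.ι_desc f j, Scheme.Hom.comp_apply, Scheme.Hom.comp_apply, hy, hz,
        ← Scheme.Hom.comp_apply, ← Scheme.Hom.comp_apply, Category.assoc, hgh]
      rfl
    obtain rfl := hd k j y z h1
    exact ⟨y, hy⟩
  have h1 : IsOpenImmersion.lift (Sigma.ι X j) (V.ι ≫ g) hg = IsOpenImmersion.lift (Sigma.ι X j) (V.ι ≫ h) hh := by
    rw [← cancel_mono (f j), ← Sigma.ι_desc f j, ← Category.assoc, ← Category.assoc, IsOpenImmersion.lift_fac,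
      IsOpenImmersion.lift_fac, Category.assoc, Category.assoc, hgh]
  rw [← IsOpenImmersion.lift_fac (Sigma.ι X j) (V.ι ≫ g) hg, h1, IsOpenImmersion.lift_fac]

/-- Lifts along a monomorphism glue. -/
theorem exists_lift_of_local {T Z S : Scheme.{u}} (i : Z ⟶ S) [Mono i] (g : T ⟶ S)
    (h : ∀ t : T, ∃ V : T.Opens, t ∈ V ∧ ∃ l : (V : Scheme.{u}) ⟶ Z, l ≫ i = V.ι ≫ g) :
    ∃ l : T ⟶ Z, l ≫ i = g := by
  choose V hV l hl using h
  let 𝒰 : T.OpenCover := {
    I₀ := T, X t := (V t), f t := (V t).ι,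
    mem₀ := by
      rw [Scheme.presieve₀_mem_precoverage_iff]
      refine ⟨fun x ↦ ⟨x, by simpa using hV x⟩, inferInstance⟩ }
  refine ⟨𝒰.glueMorphisms l fun x y => ?_, 𝒰.hom_ext _ _ fun t => ?_⟩
  · rw [← cancel_mono i, Category.assoc, Category.assoc, hl, hl, ← Category.assoc, ← Category.assoc]
    exact congrArg (· ≫ g) pullback.condition
  · rw [Scheme.Cover.ι_glueMorphisms_assoc]
    exact hl t

variable {A : Type u} [CommRing A]

/-- The open subscheme of `Spec A` off the zero locus of `J`. -/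
noncomputable def offLocus (J : Ideal A) : (Spec (CommRingCat.of A)).Opens :=
  ⟨(PrimeSpectrum.zeroLocus (J : Set A))ᶜ, (PrimeSpectrum.isClosed_zeroLocus _).isOpen_compl⟩

theorem mem_offLocus {J : Ideal A} {x : PrimeSpectrum A} : x ∈ offLocus J ↔ ¬ J ≤ x.asIdeal := Iff.rfl

/-- Representability of a finite disjoint union of strata. -/
theorem exists_rep (c : ℕ) (J J' : ℕ → Ideal A) (hfg : ∀ j, (J j).FG ∧ (J' j).FG)
    (hmon : ∀ j k, j < k → J j ≤ J' k) :
    ∃ (Z : Scheme.{u}) (i : Z ⟶ Spec (CommRingCat.of A)), Mono i ∧ LocallyOfFinitePresentation i ∧ QuasiCompact i ∧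
      QuasiSeparated i ∧ ∀ (A' : Type u) [CommRing A'] [Algebra A A'],
        (∀ (t : Ideal A') [t.IsPrime], ∃ j ≤ c, J' j ≤ RingHom.ker (algebraMap A (Localization.AtPrime t)) ∧
          ¬ (J j).map (algebraMap A A') ≤ t) ↔
        ∃ k : Spec (CommRingCat.of A') ⟶ Z, k ≫ i = Spec.map (CommRingCat.ofHom (algebraMap A A')) := by
  let q := fun j : ULift.{u} (Fin (c + 1)) => Spec.map (CommRingCat.ofHom (Ideal.Quotient.mk (J' j.down)))
  haveI hq : ∀ j, IsClosedImmersion (q j) := fun j =>
    IsClosedImmersion.spec_of_surjective _ Ideal.Quotient.mk_surjective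
  let U := fun j : ULift.{u} (Fin (c + 1)) => q j ⁻¹ᵁ offLocus (J j.down)
  let X := fun j : ULift.{u} (Fin (c + 1)) => (U j : Scheme.{u})
  let f : ∀ j, X j ⟶ Spec (CommRingCat.of A) := fun j => (U j).ι ≫ q j
  haveI hf : ∀ j, Mono (f j) := fun j => inferInstanceAs (Mono ((U j).ι ≫ q j))
  have hfx : ∀ j (x : X j), J' j.down ≤ (f j x : PrimeSpectrum A).asIdeal ∧ ¬ J j.down ≤ (f j x : PrimeSpectrum A).asIdeal :=
    fun j x => ⟨fun a ha => by
      show Ideal.Quotient.mk (J' j.down) a ∈ (x.1 : PrimeSpectrum (A ⧸ J' j.down)).asIdeal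
      rw [Ideal.Quotient.eq_zero_iff_mem.2 ha]
      exact zero_mem _, mem_offLocus.1 x.2⟩
  have hd : ∀ j k (x : X j) (y : X k), f j x = f k y → j = k := by
    intro j k x y hxy
    obtain ⟨hj', hj⟩ := hfx j x
    obtain ⟨hk', hk⟩ := hfx k y
    rw [← hxy] at hk' hk
    rcases lt_trichotomy (j.down : ℕ) (k.down : ℕ) with h | h | h
    · exact absurd ((hmon _ _ h).trans hk') hj
    · exact ULift.ext _ _ (Fin.ext h)
    · exact absurd ((hmon _ _ h).trans hj') hk
  haveI := mono_sigmaDesc f hd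
  refine ⟨∐ X, Sigma.desc f, inferInstance, ?_, ?_, inferInstance, fun A' _ _ => ?_⟩
  · refine IsZariskiLocalAtSource.sigmaDesc (P := @LocallyOfFinitePresentation) fun j => ?_
    haveI : LocallyOfFinitePresentation (q j) := by
      rw [HasRingHomProperty.Spec_iff (P := @LocallyOfFinitePresentation)]
      show (Ideal.Quotient.mk (J' j.down)).FinitePresentation
      exact RingHom.FinitePresentation.of_surjective _ Ideal.Quotient.mk_surjective (by
        rw [Ideal.mk_ker]; exact (hfg _).2)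
    exact inferInstanceAs (LocallyOfFinitePresentation ((U j).ι ≫ q j))
  · haveI : ∀ j, CompactSpace (X j) := fun j => isCompact_iff_compactSpace.1 (by
      have hc : IsCompact ((PrimeSpectrum.zeroLocus (J j.down : Set A))ᶜ) :=
        (PrimeSpectrum.isCompact_isOpen_iff_ideal.2 ⟨J j.down, (hfg _).1, rfl⟩).1
      exact (q j).isCompact_preimage hc)
    haveI : CompactSpace (∐ X : Scheme.{u}) := (sigmaMk X).compactSpace
    exact (HasAffineProperty.iff_of_isAffine (P := @QuasiCompact)).2 inferInstance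
  let g := Spec.map (CommRingCat.ofHom (algebraMap A A'))
  constructor
  · intro h
    refine exists_lift_of_local _ g fun x => ?_
    obtain ⟨j, hj, hj', hjt⟩ := h (x : PrimeSpectrum A').asIdeal
    let t := (x : PrimeSpectrum A').asIdeal
    let jj : ULift.{u} (Fin (c + 1)) := ⟨⟨j, Nat.lt_succ_of_le hj⟩⟩
    obtain ⟨a, ha, hja⟩ : ∃ a ∉ t, ∀ b ∈ J' j, a * algebraMap A A' b = 0 := by
      obtain ⟨s, hs⟩ := (hfg j).2
      have : ∀ b : (s : Set A), ∃ a : t.primeCompl, (a : A') * algebraMap A A' b.1 = 0 := fun b =>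
        (IsLocalization.map_eq_zero_iff t.primeCompl (Localization.AtPrime t) _).1
          ((IsScalarTower.algebraMap_apply A A' _ b.1).symm.trans (hj' (hs ▸ Ideal.subset_span b.2)))
      choose a ha using this
      refine ⟨(∏ b, a b : t.primeCompl), (∏ b, a b : t.primeCompl).2, fun b hb => ?_⟩
      rw [← hs] at hb
      induction hb using Submodule.span_induction with
      | mem b hb =>
        obtain ⟨c, hc⟩ := Finset.dvd_prod_of_mem a (Finset.mem_univ (⟨b, hb⟩ : (s : Set A)))
        rw [hc, Submonoid.coe_mul, mul_comm (a _ : A'), mul_assoc, ha ⟨b, hb⟩, mul_zero]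
      | zero => rw [map_zero, mul_zero]
      | add b b' _ _ h h' => rw [map_add, mul_add, h, h', add_zero]
      | smul r b _ h => rw [smul_eq_mul, map_mul, mul_left_comm, h, mul_zero]
    obtain ⟨b, hb, hbt⟩ : ∃ b ∈ J j, algebraMap A A' b ∉ t := by
      by_contra hno
      push Not at hno
      exact hjt (Ideal.map_le_iff_le_comap.2 fun b hb => hno b hb)
    let e := a * algebraMap A A' b
    let L := Localization.Away e
    have hJ0 : ∀ r ∈ J' j, algebraMap A L r = 0 := fun r hr => by
      rw [IsScalarTower.algebraMap_apply A A' L, IsLocalization.map_eq_zero_iff (Submonoid.powers e)]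
      exact ⟨⟨e, Submonoid.mem_powers e⟩, by
        show a * algebraMap A A' b * algebraMap A A' r = 0
        rw [mul_right_comm, hja r hr, zero_mul]⟩
    let φ : Spec (CommRingCat.of L) ⟶ Spec (CommRingCat.of (A ⧸ J' j)) :=
      Spec.map (CommRingCat.ofHom (Ideal.Quotient.lift (J' j) (algebraMap A L) hJ0))
    let emb := Spec.map (CommRingCat.ofHom (algebraMap A' L))
    haveI : IsOpenImmersion emb := IsOpenImmersion.of_isLocalization (R := A') (S := L) e
    have hφ : φ ≫ q jj = emb ≫ g := by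
      simp only [φ, q, emb, g, jj, ← Spec.map_comp]
      congr 1
    have hrange : Set.range φ ⊆ Set.range (U jj).ι := by
      rintro _ ⟨w, rfl⟩
      rw [Scheme.Opens.range_ι]
      show (φ ≫ q jj) w ∈ offLocus (J j)
      rw [hφ]
      show ¬ J j ≤ ((emb ≫ g) w : PrimeSpectrum A).asIdeal
      intro hle
      have h2 : algebraMap A' L (algebraMap A A' b) ∈ (w : PrimeSpectrum L).asIdeal := hle hb
      refine (w : PrimeSpectrum L).2.ne_top (Ideal.eq_top_of_isUnit_mem _ h2 ?_)
      have hu : IsUnit (algebraMap A' L e) := IsLocalization.Away.algebraMap_isUnit e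
      rw [map_mul] at hu
      exact isUnit_of_mul_isUnit_right hu
    let ℓ : Spec (CommRingCat.of L) ⟶ ∐ X := IsOpenImmersion.lift (U jj).ι φ hrange ≫ Sigma.ι X jj
    have hℓ : ℓ ≫ Sigma.desc f = emb ≫ g := by
      simp only [ℓ, Category.assoc, Sigma.ι_desc, f]
      rw [← Category.assoc, IsOpenImmersion.lift_fac, hφ]
    refine ⟨emb.opensRange, ?_, IsOpenImmersion.lift emb emb.opensRange.ι (by
      rw [Scheme.Opens.range_ι]; exact subset_rfl) ≫ ℓ, ?_⟩
    · have hmem : x ∈ Set.range (PrimeSpectrum.comap (algebraMap A' L)) := by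
        rw [PrimeSpectrum.localization_away_comap_range L e]
        exact Ideal.IsPrime.mul_notMem (x : PrimeSpectrum A').2 ha hbt
      exact hmem
    · rw [Category.assoc, hℓ, ← Category.assoc, IsOpenImmersion.lift_fac]
  · rintro ⟨k, hk⟩ t _
    let x : Spec (CommRingCat.of A') := (⟨t, inferInstance⟩ : PrimeSpectrum A')
    obtain ⟨⟨jj, y⟩, hy⟩ := (sigmaMk X).surjective (k x)
    rw [sigmaMk_mk] at hy
    have hfy : f jj y = g x := by
      refine (congrArg (fun φ : X jj ⟶ _ => φ y) (Sigma.ι_desc f jj).symm).trans ?_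
      show (Sigma.desc f) (Sigma.ι X jj y) = g x
      rw [hy, show g = k ≫ Sigma.desc f from hk.symm]
      rfl
    obtain ⟨-, hny⟩ := hfx jj y
    refine ⟨jj.down, Nat.le_of_lt_succ jj.down.2, fun r hr => ?_, fun hle => hny ?_⟩
    · let L := Localization.AtPrime t
      let emb := Spec.map (CommRingCat.ofHom (algebraMap A' L))
      have hrange : Set.range (emb ≫ k) ⊆ Set.range (Sigma.ι X jj) := by
        rintro _ ⟨w, rfl⟩
        have hsp : emb w ⤳ x := by
          refine (PrimeSpectrum.le_iff_specializes _ _).1 ?_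
          intro r hr
          by_contra hrt
          exact (w : PrimeSpectrum L).2.ne_top (Ideal.eq_top_of_isUnit_mem _ hr
            (IsLocalization.map_units L (⟨r, hrt⟩ : t.primeCompl)))
        exact (hsp.map k.continuous).mem_open (Sigma.ι X jj).isOpenEmbedding.isOpen_range ⟨y, hy⟩
      let m := IsOpenImmersion.lift (Sigma.ι X jj) (emb ≫ k) hrange
      have hm : (m ≫ (U jj).ι) ≫ q jj = emb ≫ g := by
        rw [Category.assoc]
        show m ≫ f jj = _
        rw [← Sigma.ι_desc f jj, ← Category.assoc, IsOpenImmersion.lift_fac, Category.assoc, hk]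
      rw [← Spec.map_preimage (m ≫ (U jj).ι), ← Spec.map_comp, ← Spec.map_comp] at hm
      have h1 := congrArg (fun φ => φ.hom r) (Spec.map_injective hm)
      simp only [CommRingCat.hom_comp, CommRingCat.hom_ofHom, RingHom.comp_apply] at h1
      rw [RingHom.mem_ker, IsScalarTower.algebraMap_apply A A' L, ← h1,
        Ideal.Quotient.eq_zero_iff_mem.2 hr, map_zero]
    · rw [hfy]
      exact Ideal.map_le_iff_le_comap.1 hle

end FlatInDimLib
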