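import Groth.Agent.FlatInDimLib.Chain
import Groth.Agent.FittLib.LocFree
import Groth.Agent.FittLib.Props
import Groth.Agent.DevissExLib.UnivInjLocal
import Groth.Agent.ContentLib.Alg
import Mathlib

/-!
# Flatness at the generic points of the fibres through Fitting ideals
-/

set_option autoImplicit false
set_option linter.all false

universe u

open scoped TensorProduct

namespace FlatInDimLib

section Generic

variable {R D : Type u} [CommRing R] [CommRing D] [Algebra R D] [Algebra.Smooth R D]
  {M : Type u} [AddCommGroup M] [Module D M] [Module R M] [IsScalarTower R D M]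

/-- Flatness at the generic point of a fibre in terms of Fitting ideals. -/
theorem flatAt_generic_iff [Module.FinitePresentation D M] (hg : FlatCA.GeomIrredFibres R D) (t : Ideal R)
    [t.IsPrime] [(t.map (algebraMap R D)).IsPrime] {c : ℕ} (hc : Fitt.ideal D M c = ⊤) :
    FlatCA.FlatAt R (t.map (algebraMap R D)) M ↔ ∃ j ≤ c,
      (∀ k < j, ∀ b ∈ Fitt.ideal D M k, algebraMap D (Localization.AtPrime (t.map (algebraMap R D))) b = 0) ∧
        ¬ Fitt.ideal D M j ≤ t.map (algebraMap R D) := by
  classical
  let P := t.map (algebraMap R D)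
  let L := Localization.AtPrime P
  let MP := LocalizedModule P.primeCompl M
  constructor
  · intro hM
    obtain ⟨r, α, hα⟩ := FlatInjLib.exists_baseChange_bijective P M
    have hb := DevissFreeLib.bijective_at_generic t α hα hM
    let b0 := (Algebra.TensorProduct.basis L (Pi.basisFun D (Fin r))).map
      ((isLocalizedModule_iff_isBaseChange P.primeCompl L
        (LocalizedModule.mkLinearMap P.primeCompl (Fin r → D))).1 inferInstance).equiv
    let b := b0.map (LinearEquiv.ofBijective (LocalizedModule.map P.primeCompl α) hb)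
    have h0 : ∀ k, (Fitt.ideal D M k).map (algebraMap D L) = if r ≤ k then ⊤ else ⊥ := fun k => by
      have h1 := FittLib.ideal_of_basis b k
      rw [Fintype.card_fin] at h1
      exact (FittLib.ideal_localized P.primeCompl k).symm.trans h1
    have hrc : r ≤ c := by
      by_contra hlt
      have := h0 c
      rw [hc, Ideal.map_top, if_neg hlt] at this
      exact top_ne_bot this
    refine ⟨r, hrc, fun k hk x hx => ?_, fun hle => ?_⟩
    · have h1 := Ideal.mem_map_of_mem (algebraMap D L) hx
      rw [h0 k, if_neg (by omega), Ideal.mem_bot] at h1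
      exact h1
    · have h1 : (Fitt.ideal D M r).map (algebraMap D L) ≤ IsLocalRing.maximalIdeal L := by
        rw [← Localization.AtPrime.map_eq_maximalIdeal]
        exact Ideal.map_mono hle
      rw [h0 r, if_pos le_rfl, top_le_iff] at h1
      exact (IsLocalRing.maximalIdeal.isMaximal L).ne_top h1
  · rintro ⟨j, -, hlow, hj⟩
    obtain ⟨x, hx⟩ := (FittLib.not_le_iff_gen_prime P j).1 hj
    have hbot : ∀ k < j, Fitt.ideal L MP k = ⊥ := fun k hk => by
      refine (FittLib.ideal_localized P.primeCompl k).trans ?_
      rw [Ideal.map_eq_bot_iff_le_ker]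
      exact fun b hb => hlow k hk b hb
    haveI : Module.Free L MP := Module.Free.of_basis
      (Module.Basis.mk (FittLib.linearIndependent_of_ideal_eq_bot x hx hbot) hx.ge)
    haveI : Module.Flat R L := Module.Flat.trans R D L
    exact Module.Flat.trans R L MP

end Generic

section BaseChange

attribute [local instance] Algebra.TensorProduct.rightAlgebra

variable {A P : Type u} [CommRing A] [CommRing P] [Algebra A P] [Algebra.Smooth A P]
  (hgi : FlatCA.GeomIrredFibres A P) {A' : Type u} [CommRing A'] [Algebra A A']

include hgi in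
/-- An element dies at the generic point of a fibre of the base change iff it dies in the local ring of the base. -/
theorem vanish_iff (t : Ideal A') [t.IsPrime] [(t.map (algebraMap A' (A' ⊗[A] P))).IsPrime] (b : P) :
    algebraMap (A' ⊗[A] P) (Localization.AtPrime (t.map (algebraMap A' (A' ⊗[A] P)))) (1 ⊗ₜ b) = 0 ↔
      (1 : Localization.AtPrime t) ⊗ₜ[A] b = 0 := by
  let P' := A' ⊗[A] P
  let C := Localization.AtPrime t
  let x : P' := 1 ⊗ₜ b
  have hgi' : FlatCA.GeomIrredFibres A' P' := DevissFreeLib.geomIrred_baseChange A' hgi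
  haveI := liesOver_map hgi' t
  have h2 : (1 : C) ⊗ₜ[A] b = 0 ↔ (1 : C) ⊗ₜ[A'] x = 0 := by
    rw [← map_eq_zero_iff (Algebra.TensorProduct.cancelBaseChange A A' C C P) (AlgEquiv.injective _),
      Algebra.TensorProduct.cancelBaseChange_tmul, one_smul]
  rw [h2, IsLocalization.map_eq_zero_iff (t.map (algebraMap A' P')).primeCompl]
  haveI : IsLocalizedModule t.primeCompl (TensorProduct.mk A' C P' 1) :=
    (isLocalizedModule_iff_isBaseChange t.primeCompl C _).2 (TensorProduct.isBaseChange A' P' C)
  constructor
  · rintro ⟨⟨u, hu⟩, hux⟩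
    haveI : Module.Projective A' P' := GeomPureLib.projective_of_irredFibres
      (DevissFreeLib.irredFibres_of_geomIrred hgi')
    haveI := (FlatInjLib.fibre_isDomain hgi' t).1
    let f : P' →ₗ[A'] P' := LinearMap.mulLeft A' u
    have hf : Function.Injective (f.baseChange t.ResidueField) := by
      have hm : ∀ z, f.baseChange t.ResidueField z = FibAssLib.incl P' t u * z := fun z => by
        induction z using TensorProduct.induction_on with
        | zero => simp
        | tmul k y =>
          show k ⊗ₜ[A'] (u * y) = ((1 : t.ResidueField) ⊗ₜ[A'] u) * (k ⊗ₜ[A'] y)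
          rw [Algebra.TensorProduct.tmul_mul_tmul, one_mul]
        | add a b ha hb => rw [map_add, ha, hb, mul_add]
      intro z w hzw
      rw [hm, hm] at hzw
      exact mul_left_cancel₀ ((FlatInjLib.fibre_isDomain hgi' t).2 u hu) hzw
    have hinj := DevissExLib.rTensor_injective_of_fibre t f hf C fun c hc a a' h => by
      have hu' : IsUnit (algebraMap A' C c) := IsLocalization.map_units C (⟨c, hc⟩ : t.primeCompl)
      simp only [Algebra.smul_def] at h
      exact hu'.mul_left_cancel h
    have h3 : x ⊗ₜ[A'] (1 : C) = 0 := hinj (by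
      rw [map_zero, LinearMap.rTensor_tmul]
      show (u * x) ⊗ₜ[A'] (1 : C) = 0
      rw [show u * x = 0 from hux, TensorProduct.zero_tmul])
    simpa using congrArg (TensorProduct.comm A' P' C) h3
  · intro h
    obtain ⟨⟨a, ha⟩, hax⟩ := (IsLocalizedModule.eq_zero_iff t.primeCompl (TensorProduct.mk A' C P' 1)).1 h
    refine ⟨⟨algebraMap A' P' a, fun h' => ha ?_⟩, ?_⟩
    · exact (Ideal.over_def (t.map (algebraMap A' P')) t).symm ▸ h'
    · exact (Algebra.smul_def a x).symm.trans hax

include hgi in
/-- An element lies in the generic point of a fibre iff it dies in the residue field of the base. -/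
theorem mem_iff_fibre (t : Ideal A') [t.IsPrime] (b : P) :
    (1 : A') ⊗ₜ[A] b ∈ t.map (algebraMap A' (A' ⊗[A] P)) ↔ (1 : t.ResidueField) ⊗ₜ[A] b = 0 := by
  rw [← comap_incl_bot (DevissFreeLib.geomIrred_baseChange A' hgi) t, Ideal.mem_comap, Ideal.mem_bot]
  show (1 : t.ResidueField) ⊗ₜ[A'] ((1 : A') ⊗ₜ[A] b) = 0 ↔ _
  rw [← map_eq_zero_iff (Algebra.TensorProduct.cancelBaseChange A A' t.ResidueField t.ResidueField P)
    (AlgEquiv.injective _), Algebra.TensorProduct.cancelBaseChange_tmul, one_smul]

/-- The strata: flatness in dimensions `≥ d` for a smooth algebra of relative dimension `d`. -/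
theorem exists_strata {d : ℕ} {g : A} (hs : FibDim d g P) (M : Type u) [AddCommGroup M] [Module P M]
    [Module.FinitePresentation P M] (hgi : FlatCA.GeomIrredFibres A P) :
    ∃ (c : ℕ) (J J' : ℕ → Ideal A), (∀ j, (J j).FG ∧ (J' j).FG) ∧ (∀ j k, j < k → J j ≤ J' k) ∧
      ∀ (A' : Type u) [CommRing A'] [Algebra A A'], FDb d g A' P M ↔
        ∀ (t : Ideal A') [t.IsPrime], algebraMap A A' g ∉ t → ∃ j ≤ c, J' j ≤ RingHom.ker (algebraMap A (Localization.AtPrime t)) ∧
          ¬ (J j).map (algebraMap A A') ≤ t := by
  classical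
  have hirr := DevissFreeLib.irredFibres_of_geomIrred hgi
  let I := fun j => Fitt.ideal P M j
  let K := fun j => ⨆ k ∈ Finset.range j, I k
  choose J hJfg hJ using fun j => ContentLib.exists_ideal (A := A) hirr (I j)
  choose J' hJ'fg hJ' using fun j => ContentLib.exists_ideal (A := A) hirr (K j)
  obtain ⟨c, v, hv⟩ := Module.Finite.exists_fin (R := P) (M := M)
  have hIK : ∀ {k j : ℕ}, k < j → I k ≤ K j := fun h => le_iSup₂_of_le _ (Finset.mem_range.2 h) le_rfl
  refine ⟨c, J, J', fun j => ⟨hJfg j (FittLib.ideal_fg j),
    hJ'fg j (Submodule.fg_biSup _ _ fun k _ => FittLib.ideal_fg k)⟩, fun j k hjk => ?_, fun A' _ _ => ?_⟩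
  · have h1 := (hJ' k (A ⧸ J' k)).1 (Ideal.mk_ker (I := J' k)).ge
    have h2 := (hJ j (A ⧸ J' k)).2 fun b hb => h1 b (hIK hjk hb)
    rwa [Ideal.Quotient.algebraMap_eq, Ideal.mk_ker] at h2
  let P' := A' ⊗[A] P
  let M' := P' ⊗[P] M
  have hgi' : FlatCA.GeomIrredFibres A' P' := DevissFreeLib.geomIrred_baseChange A' hgi
  have hs' := fibDim_baseChange hs A'
  have hc : Fitt.ideal P' M' c = ⊤ := by
    rw [FittLib.ideal_tensor, FittLib.ideal_top_of_gen v hv le_rfl, Ideal.map_top]
  have key : ∀ (t : Ideal A') [t.IsPrime] [(t.map (algebraMap A' P')).IsPrime],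
      FlatCA.FlatAt A' (t.map (algebraMap A' P')) M' ↔
        ∃ j ≤ c, J' j ≤ RingHom.ker (algebraMap A (Localization.AtPrime t)) ∧
          ¬ (J j).map (algebraMap A A') ≤ t := fun t _ _ => by
    rw [flatAt_generic_iff hgi' t hc]
    refine exists_congr fun j => and_congr_right fun _ => and_congr ?_ (not_congr ?_)
    · rw [hJ' j]
      constructor
      · intro h b hb
        have hle : K j ≤ RingHom.ker (Algebra.TensorProduct.includeRight (R := A)
            (A := Localization.AtPrime t) (B := P)) := iSup₂_le fun k hk b hb =>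
          (vanish_iff hgi t b).1 (h k (Finset.mem_range.1 hk) _ (by
            rw [FittLib.ideal_tensor]; exact Ideal.mem_map_of_mem (algebraMap P P') hb))
        exact hle hb
      · intro h k hk
        rw [FittLib.ideal_tensor]
        have hle : (I k).map (algebraMap P P') ≤
            RingHom.ker (algebraMap P' (Localization.AtPrime (t.map (algebraMap A' P')))) :=
          Ideal.map_le_iff_le_comap.2 fun b hb => (vanish_iff hgi t b).2 (h b (hIK hk hb))
        exact fun b hb => hle hb
    · rw [FittLib.ideal_tensor, Ideal.map_le_iff_le_comap, Ideal.map_le_iff_le_comap,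
        show t.comap (algebraMap A A') = RingHom.ker (algebraMap A t.ResidueField) from
          Ideal.ext fun a => by
            rw [RingHom.mem_ker, IsScalarTower.algebraMap_apply A A' t.ResidueField,
              Ideal.algebraMap_residueField_eq_zero, Ideal.mem_comap], hJ j]
      exact forall₂_congr fun b _ => mem_iff_fibre hgi t b
  constructor
  · intro h t _ hgt
    haveI := DevissExLib.map_isPrime_of_geomIrred hgi' t
    haveI := liesOver_map hgi' t
    refine (key t).1 (by_contra fun hn => ?_)
    have h2 := h t (t.map (algebraMap A' P')) hgt hn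
    rw [trd_generic hgi' t (hs' t hgt)] at h2
    exact lt_irrefl _ h2
  · intro h t Q _ _ _ hgt hn
    haveI := DevissExLib.map_isPrime_of_geomIrred hgi' t
    by_cases hQ : Q = t.map (algebraMap A' P')
    · subst hQ
      exact absurd ((key t).2 (h t hgt)) hn
    · exact trd_lt hgi' t (hs' t hgt) Q hQ

end BaseChange

end FlatInDimLib
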